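import Groth.Agent.Lib.AssTensorS10.Main

/-!
# Consequences: no embedded points in `F ⊗_S G`
-/

set_option autoImplicit false
set_option linter.all false
set_option backward.isDefEq.respectTransparency false
set_option maxHeartbeats 1000000

universe u

open CategoryTheory Limits AlgebraicGeometry IsLocalRing

noncomputable section

namespace GrothLib.AssTensorS10

variable {X Y S : Scheme.{u}} {f : X ⟶ S} {g : Y ⟶ S} [IsLocallyNoetherian Y]

theorem ass_pullTensor_structure [IsLocallyNoetherian S] (G : Y.Modules) :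
    AssSch.Ass (AssTensor3.pullTensor g (Coh.structureModule S) G) = AssSch.Ass G := by
  obtain ⟨ε⟩ := Ample.nonempty_pullback_structureModule g
  exact AssPts.ass_congr (((DCoh.tensorBi (X := Y)).mapIso ε).app G ≪≫ OX.tensorUnitLeftIso G)

theorem ass_fiber_iff_of_ass [IsLocallyNoetherian S] {G : Y.Modules} (hG : FlatMod.IsFlatOver g G) {s : S}
    (hs : s ∈ AssSch.Ass (Coh.structureModule S)) (y' : g.fiber s) :
    y' ∈ AssSch.Ass ((Scheme.Modules.pullback (g.fiberι s)).obj G) ↔ g.fiberι s y' ∈ AssSch.Ass G := by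
  rw [AssTensor3.ass_fiber_iff hG hs, ass_pullTensor_structure]

variable [IsLocallyNoetherian X] [IsLocallyNoetherian (pullback f g)] {F : X.Modules} {G : Y.Modules}
  [G.IsQuasicoherent]

theorem ass_eq_iUnion' [IsLocallyNoetherian S] (hG : FlatMod.IsFlatOver g G)
    (hAss : ∀ x ∈ AssSch.Ass F, f x ∈ AssSch.Ass (Coh.structureModule S)) :
    AssSch.Ass (T (f := f) (g := g) F G) =
      ⋃ (x : ↥X) (_ : x ∈ AssSch.Ass F) (y : ↥Y) (_ : y ∈ AssSch.Ass G) (_ : f x = g y),
        ⇑(pullback.map (X.fromSpecResidueField x ≫ f) (Y.fromSpecResidueField y ≫ g) f g (X.fromSpecResidueField x)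
            (Y.fromSpecResidueField y) (𝟙 S) (Category.comp_id _) (Category.comp_id _)) ''
          AssSch.Ass (Coh.structureModule (pullback (X.fromSpecResidueField x ≫ f) (Y.fromSpecResidueField y ≫ g))) := by
  rw [ass_eq_iUnion hG]
  ext z
  simp only [Set.mem_iUnion, exists_prop]
  constructor
  · rintro ⟨x, hx, y', hy', y, rfl, h⟩
    exact ⟨x, hx, _, (ass_fiber_iff_of_ass hG (hAss x hx) y').1 hy', (FibreFlat.fiberι_comp_apply g _ y').symm, h⟩
  · rintro ⟨x, hx, y, hy, hxy, h⟩
    obtain ⟨y', rfl⟩ : y ∈ Set.range (g.fiberι (f x)) := (g.range_fiberι (f x)).symm ▸ hxy.symm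
    exact ⟨x, hx, y', (ass_fiber_iff_of_ass hG (hAss x hx) y').2 hy, _, rfl, h⟩

theorem snd_mem_ass [IsLocallyNoetherian S] (hG : FlatMod.IsFlatOver g G)
    (hAss : ∀ x ∈ AssSch.Ass F, f x ∈ AssSch.Ass (Coh.structureModule S))
    (z : ↥(pullback f g)) (hz : z ∈ AssSch.Ass (T (f := f) (g := g) F G)) : pullback.snd f g z ∈ AssSch.Ass G := by
  rw [ass_eq_iUnion' hG hAss] at hz
  simp only [Set.mem_iUnion, exists_prop] at hz
  obtain ⟨x, hx, y, hy, -, v, -, rfl⟩ := hz
  rw [← Scheme.Hom.comp_apply, pullback.map, pullback.lift_snd, Scheme.Hom.comp_apply, Scheme.fromSpecResidueField_apply]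
  exact hy

omit [G.IsQuasicoherent] in
theorem noEmbedded_fiber_of_square {x : X} {i : (pullback.fst f g).fiber x ⟶ g.fiber (f x)}
    (hi : IsPullback i ((pullback.fst f g).fiberToSpecResidueField x) (g.fiberToSpecResidueField (f x))
      (Spec.map (f.residueFieldMap x))) (y : g.fiber (f x)) :
    AssSch.NoEmbedded (Coh.structureModule (i.fiber y)) := by
  let φ := (f.residueFieldMap x).hom
  letI := φ.toAlgebra
  haveI := isLocallyNoetherian_fiber (pullback.fst f g) x
  haveI := isLocallyNoetherian_fiber i y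
  let h := (g.fiber (f x)).fromSpecResidueField y ≫ g.fiberToSpecResidueField (f x)
  have hsq : IsPullback (i.fiberToSpecResidueField y) (i.fiberι y ≫ (pullback.fst f g).fiberToSpecResidueField x) h
      (Spec.map (CommRingCat.ofHom φ)) :=
    ((IsPullback.of_hasPullback i ((g.fiber (f x)).fromSpecResidueField y)).flip.paste_vert hi)
  haveI : IsLocallyNoetherian (pullback h (Spec.map (CommRingCat.ofHom φ))) :=
    isLocallyNoetherian_of_isOpenImmersion hsq.isoPullback.inv
  refine FibModLocus10.noEmbedded_structure_of_iso hsq.isoPullback.hom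
    ((NoEmbBC.noEmbedded_baseChange_iff (k := S.residueField (f x)) (K := X.residueField x) h).1 fun a _ b _ _ => ?_)
  exact Subsingleton.elim (α := PrimeSpectrum ((g.fiber (f x)).residueField y)) _ _

/-- `F ⊗_S G` has no embedded points if `F` has none and `G` has none on the fibres below `Ass F`. -/
theorem noEmbedded (hG : FlatMod.IsFlatOver g G) (hFne : AssSch.NoEmbedded F)
    (hGne : ∀ x ∈ AssSch.Ass F, AssSch.NoEmbedded ((Scheme.Modules.pullback (g.fiberι (f x))).obj G)) :
    AssSch.NoEmbedded (T (f := f) (g := g) F G) := by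
  let p := pullback.fst f g
  intro z hz z' hz' hsp
  have hx := ((AssTensor3.ass_tensor_iff (E := F) (flat_pull G hG) z).1 hz).1
  have hx' := ((AssTensor3.ass_tensor_iff (E := F) (flat_pull G hG) z').1 hz').1
  obtain ⟨x, hx₀⟩ : ∃ x, p z = x := ⟨_, rfl⟩
  have hpz' : p z' = x := (hFne _ hx _ hx' (hsp.map p.continuous)).symm.trans hx₀
  obtain ⟨w, rfl⟩ : z ∈ Set.range (p.fiberι x) := (p.range_fiberι x).symm ▸ hx₀
  obtain ⟨w', rfl⟩ : z' ∈ Set.range (p.fiberι x) := (p.range_fiberι x).symm ▸ hpz'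
  obtain ⟨i, hi₁, hi⟩ := FibreBC.exists_isPullback_fiber (IsPullback.of_hasPullback f g).flip x
  obtain ⟨hxA, hy, hw⟩ := (ass_iff F G hG i hi₁ hi w).1 hz
  obtain ⟨-, hy', hw'⟩ := (ass_iff F G hG i hi₁ hi w').1 hz'
  have hww : w' ⤳ w := (p.fiberι x).isEmbedding.isInducing.specializes_iff.1 hsp
  have hyy : i w = i w' := hGne x hxA _ hy _ hy' (hww.map i.continuous)
  obtain ⟨v, hv⟩ : w ∈ Set.range (i.fiberι (i w)) := (i.range_fiberι (i w)).symm ▸ rfl
  obtain ⟨v', hv'⟩ : w' ∈ Set.range (i.fiberι (i w)) := (i.range_fiberι (i w)).symm ▸ hyy.symm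
  obtain ⟨ε⟩ := Ample.nonempty_pullback_structureModule (i.fiberι (i w))
  have hass : ∀ (v : i.fiber (i w)) (w₁ : p.fiber x), i.fiberι (i w) v = w₁ →
      IsAssociatedPrime (maximalIdeal ((p.fiber x).presheaf.stalk w₁))
        (AssTensor3.fibreQuot i (Coh.structureModule (p.fiber x)) w₁) →
      v ∈ AssSch.Ass (Coh.structureModule (i.fiber (i w))) := by
    rintro v w₁ rfl h
    rw [← AssPts.ass_congr ε]
    exact (AssTensor3.fibre_transport i _ _ v).1.2 h
  have := noEmbedded_fiber_of_square hi (i w) v (hass v w hv hw) v' (hass v' w' hv' hw')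
    ((i.fiberι (i w)).isEmbedding.isInducing.specializes_iff.1 (by rw [hv, hv']; exact hww))
  rw [← hv, ← hv', this]

theorem noEmbedded_of_ass [IsLocallyNoetherian S] (hG : FlatMod.IsFlatOver g G) (hFne : AssSch.NoEmbedded F)
    (hGne : AssSch.NoEmbedded G) (hAss : ∀ x ∈ AssSch.Ass F, f x ∈ AssSch.Ass (Coh.structureModule S)) :
    AssSch.NoEmbedded (T (f := f) (g := g) F G) :=
  noEmbedded hG hFne fun x hx a ha b hb hab => (g.fiberι (f x)).isEmbedding.injective
    (hGne _ ((ass_fiber_iff_of_ass hG (hAss x hx) a).1 ha) _ ((ass_fiber_iff_of_ass hG (hAss x hx) b).1 hb)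
      (hab.map (g.fiberι (f x)).continuous))

end GrothLib.AssTensorS10
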