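import Mathlib.AlgebraicGeometry.Fiber
import Mathlib.AlgebraicGeometry.Noetherian
import Mathlib.AlgebraicGeometry.Pullbacks
import Mathlib.RingTheory.EssentialFiniteness
import Mathlib.RingTheory.RingHom.EssFiniteType
import Mathlib.RingTheory.RingHom.FiniteType

/-!
# The fibres of a locally noetherian scheme are locally noetherian
-/

set_option autoImplicit false
set_option linter.all false
set_option backward.isDefEq.respectTransparency false

universe u

open CategoryTheory Limits AlgebraicGeometry TensorProduct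

noncomputable section

namespace GrothLib.AssTensorS10

theorem germ_residue_essFiniteType {S : Scheme.{u}} {V : S.Opens} (hV : IsAffineOpen V) {s : S} (hs : s ∈ V) :
    (S.presheaf.germ V s hs ≫ S.residue s).hom.EssFiniteType := by
  letI := (S.presheaf.germ V s hs).hom.toAlgebra
  haveI : IsLocalization (hV.primeIdealOf ⟨s, hs⟩).asIdeal.primeCompl (S.presheaf.stalk s) :=
    hV.isLocalization_stalk ⟨s, hs⟩
  have h1 : (S.presheaf.germ V s hs).hom.EssFiniteType :=
    Algebra.EssFiniteType.of_isLocalization (S.presheaf.stalk s) (hV.primeIdealOf ⟨s, hs⟩).asIdeal.primeCompl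
  exact h1.comp (RingHom.FiniteType.of_surjective (S.residue s).hom (Scheme.residue_surjective S s)).essFiniteType

/-- The fibres of a morphism with locally noetherian source are locally noetherian. -/
theorem isLocallyNoetherian_fiber {Y S : Scheme.{u}} [IsLocallyNoetherian Y] (g : Y ⟶ S) (s : S) :
    IsLocallyNoetherian (g.fiber s) := by
  obtain ⟨V, hV, hs, -⟩ := exists_isAffineOpen_mem_and_subset (show s ∈ (⊤ : S.Opens) from trivial)
  let φ := S.presheaf.germ V s hs ≫ S.residue s
  have hb : Spec.map φ ≫ hV.fromSpec = S.fromSpecResidueField s := by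
    rw [Spec.map_comp, Category.assoc]
    exact congrArg (Spec.map (S.residue s) ≫ ·) (hV.fromSpecStalk_eq_fromSpecStalk hs)
  let Y' := pullback g hV.fromSpec
  haveI : IsLocallyNoetherian Y' := isLocallyNoetherian_of_isOpenImmersion (pullback.fst g hV.fromSpec)
  let P := pullback (pullback.snd g hV.fromSpec) (Spec.map φ)
  have hP : IsPullback (pullback.fst (pullback.snd g hV.fromSpec) (Spec.map φ) ≫ pullback.fst g hV.fromSpec)
      (pullback.snd _ _) g (S.fromSpecResidueField s) := by
    rw [← hb]
    exact (IsPullback.of_hasPullback _ _).paste_horiz (IsPullback.of_hasPullback _ _)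
  suffices IsLocallyNoetherian P from isLocallyNoetherian_of_isOpenImmersion hP.isoPullback.inv
  rw [isLocallyNoetherian_iff_openCover (Scheme.Pullback.openCoverOfLeft Y'.affineCover (pullback.snd g hV.fromSpec) (Spec.map φ))]
  intro i
  let W := Y'.affineCover.X i
  haveI : IsAffine W := inferInstance
  haveI : IsLocallyNoetherian W := isLocallyNoetherian_of_isOpenImmersion (Y'.affineCover.f i)
  let a : W ⟶ Spec Γ(S, V) := Y'.affineCover.f i ≫ pullback.snd g hV.fromSpec
  let ψ : Γ(S, V) ⟶ Γ(W, ⊤) := Spec.preimage (W.isoSpec.inv ≫ a)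
  letI := ψ.hom.toAlgebra
  letI := φ.hom.toAlgebra
  haveI : Algebra.EssFiniteType Γ(S, V) (S.residueField s) := germ_residue_essFiniteType hV hs
  haveI : IsNoetherianRing Γ(W, ⊤) := by
    haveI := isLocallyNoetherian_of_isOpenImmersion W.isoSpec.inv
    exact isLocallyNoetherian_Spec.1 inferInstance
  haveI : IsNoetherianRing (Γ(W, ⊤) ⊗[Γ(S, V)] S.residueField s) := Algebra.EssFiniteType.isNoetherianRing Γ(W, ⊤) _
  haveI : IsLocallyNoetherian (Spec (CommRingCat.of (Γ(W, ⊤) ⊗[Γ(S, V)] S.residueField s))) :=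
    isLocallyNoetherian_Spec.2 inferInstance
  have hz : a ≫ 𝟙 _ = W.isoSpec.hom ≫ Spec.map (CommRingCat.ofHom (algebraMap Γ(S, V) Γ(W, ⊤))) := by
    rw [Category.comp_id, RingHom.algebraMap_toAlgebra, CommRingCat.ofHom_hom, Spec.map_preimage,
      Iso.hom_inv_id_assoc]
  let E : pullback a (Spec.map φ) ≅ Spec (CommRingCat.of (Γ(W, ⊤) ⊗[Γ(S, V)] S.residueField s)) :=
    asIso (pullback.map a (Spec.map φ) (Spec.map (CommRingCat.ofHom (algebraMap Γ(S, V) Γ(W, ⊤))))
      (Spec.map (CommRingCat.ofHom (algebraMap Γ(S, V) (S.residueField s)))) W.isoSpec.hom (𝟙 _) (𝟙 _) hz rfl) ≪≫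
      pullbackSpecIso Γ(S, V) Γ(W, ⊤) (S.residueField s)
  exact isLocallyNoetherian_of_isOpenImmersion E.hom

end GrothLib.AssTensorS10
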