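import Groth.Agent.Lib.AssTensorS10.Fibre
import Groth.Agent.Lib.FibModLocus10.FieldExt
import Groth.Agent.Lib.FibreBC.Basic
import Groth.Agent.Lib.FlatFP.BaseChangeAt
import Groth.Agent.Lib.CurveLocus.Basic

/-!
# Associated points of `F ⊗_S G` for `G` flat over the base
-/

set_option autoImplicit false
set_option linter.all false
set_option backward.isDefEq.respectTransparency false
set_option maxHeartbeats 1000000

universe u

open CategoryTheory Limits AlgebraicGeometry IsLocalRing

noncomputable section

namespace GrothLib.AssTensorS10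

theorem mem_ass_structure_iff_of_iso {A B : Scheme.{u}} (e : A ⟶ B) [IsIso e] (a : A) :
    e a ∈ AssSch.Ass (Coh.structureModule B) ↔ a ∈ AssSch.Ass (Coh.structureModule A) := by
  show Curv2.IsAssPoint _ _ ↔ Curv2.IsAssPoint _ _
  rw [AssPts.isAssPoint_structure_iff, AssPts.isAssPoint_structure_iff]
  have hb : Function.Bijective (e.stalkMap a).hom := ConcreteCategory.bijective_of_isIso (e.stalkMap a)
  exact (AssPts.semilinear_transport (e.stalkMap a).hom (e.stalkMap a).hom.toAddMonoidHom hb hb
    (fun c z => map_mul (e.stalkMap a).hom c z)).1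

variable {X Y S : Scheme.{u}} {f : X ⟶ S} {g : Y ⟶ S} [IsLocallyNoetherian X] [IsLocallyNoetherian Y]
  [IsLocallyNoetherian (pullback f g)]

/-- Ideal of the fibre of a composite with a map surjective on the stalk. -/
theorem fibreIdeal_comp {A B C : Scheme.{u}} (i : A ⟶ B) (ι : B ⟶ C) [IsPreimmersion ι] (a : A) :
    AssTensor3.fibreIdeal (i ≫ ι) a = AssTensor3.fibreIdeal i a := by
  show Ideal.map ((i ≫ ι).stalkMap a).hom _ = _
  rw [Scheme.Hom.stalkMap_comp, CommRingCat.hom_comp, ← Ideal.map_map]
  congr 1
  rcases Ideal.map_eq_top_or_isMaximal_of_surjective (ι.stalkMap (i a)).hom (ι.stalkMap_surjective (i a))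
    (maximalIdeal.isMaximal (C.presheaf.stalk (ι (i a)))) with h | h
  · exfalso
    haveI : IsLocalHom (ι.stalkMap (i a)).hom := inferInstance
    exact (maximalIdeal.isMaximal _).ne_top (top_le_iff.1 (h ▸
      ((local_hom_TFAE (ι.stalkMap (i a)).hom).out 0 2 rfl rfl).1 inferInstance))
  · exact eq_maximalIdeal h

variable (F : X.Modules) (G : Y.Modules) [G.IsQuasicoherent] (hG : FlatMod.IsFlatOver g G)

/-- `F ⊗_S G`. -/
abbrev T : (pullback f g).Modules :=
  CohB1.tensorMod ((Scheme.Modules.pullback (pullback.fst f g)).obj F) ((Scheme.Modules.pullback (pullback.snd f g)).obj G)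

include hG

theorem flat_pull : FlatMod.IsFlatOver (pullback.fst f g) ((Scheme.Modules.pullback (pullback.snd f g)).obj G) :=
  fun z => FlatFP.isFlatOverAt_baseChange g (pullback.fst f g) (pullback.snd f g) f
    (IsPullback.of_hasPullback f g).flip G z (hG _)

omit hG [IsLocallyNoetherian X] [IsLocallyNoetherian Y] [IsLocallyNoetherian (pullback f g)] [G.IsQuasicoherent] in
theorem flat_of_square {x : X} {i : (pullback.fst f g).fiber x ⟶ g.fiber (f x)}
    (hi : IsPullback i ((pullback.fst f g).fiberToSpecResidueField x) (g.fiberToSpecResidueField (f x))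
      (Spec.map (f.residueFieldMap x))) : Flat i := by
  haveI : Flat (Spec.map (f.residueFieldMap x)) := by
    letI := (f.residueFieldMap x).hom.toAlgebra
    exact Flat.SpecMap_iff.2 (RingHom.flat_algebraMap_iff.2 (inferInstance : Module.Flat (S.residueField (f x)) (X.residueField x)))
  exact MorphismProperty.of_isPullback hi.flip inferInstance

/-- Associated points of `F ⊗_S G` above `x`, read in the fibres. -/
theorem ass_iff {x : X} (i : (pullback.fst f g).fiber x ⟶ g.fiber (f x))
    (hi₁ : i ≫ g.fiberι (f x) = (pullback.fst f g).fiberι x ≫ pullback.snd f g)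
    (hi : IsPullback i ((pullback.fst f g).fiberToSpecResidueField x) (g.fiberToSpecResidueField (f x))
      (Spec.map (f.residueFieldMap x)))
    (w : (pullback.fst f g).fiber x) :
    (pullback.fst f g).fiberι x w ∈ AssSch.Ass (T F G) ↔
      x ∈ AssSch.Ass F ∧ i w ∈ AssSch.Ass ((Scheme.Modules.pullback (g.fiberι (f x))).obj G) ∧
        IsAssociatedPrime (maximalIdeal (((pullback.fst f g).fiber x).presheaf.stalk w))
          (AssTensor3.fibreQuot i (Coh.structureModule ((pullback.fst f g).fiber x)) w) := by
  let p := pullback.fst f g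
  let q := pullback.snd f g
  haveI := isLocallyNoetherian_fiber p x
  haveI := isLocallyNoetherian_fiber g (f x)
  haveI := flat_of_square hi
  let O := Coh.structureModule (p.fiber x)
  have hO : FlatMod.IsFlatOver i O := fun z => AssPts.isFlatOverAt_structure i z
  let H := (Scheme.Modules.pullback (g.fiberι (f x))).obj G
  let e : (Scheme.Modules.pullback (p.fiberι x)).obj ((Scheme.Modules.pullback q).obj G) ≅
      (Scheme.Modules.pullback i).obj H :=
    (Scheme.Modules.pullbackComp (p.fiberι x) q).app G ≪≫ (Scheme.Modules.pullbackCongr hi₁.symm).app G ≪≫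
      ((Scheme.Modules.pullbackComp i (g.fiberι (f x))).app G).symm
  have hT : AssSch.Ass ((Scheme.Modules.pullback (p.fiberι x)).obj ((Scheme.Modules.pullback q).obj G)) =
      AssSch.Ass (AssTensor3.pullTensor i H O) :=
    (AssPts.ass_congr e).trans (AssPts.ass_congr (Euler.tFUnitIso _)).symm
  constructor
  · intro h
    have hx : x ∈ AssSch.Ass F := by
      have := ((AssTensor3.ass_tensor_iff (flat_pull G hG) _).1 h).1
      rwa [FibreFlat.fiberι_comp_apply] at this
    have := (AssTensor3.ass_fiber_iff (E := F) (flat_pull G hG) hx w).2 h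
    rw [hT] at this
    exact ⟨hx, (AssTensor3.ass_tensor_iff hO w).1 this⟩
  · rintro ⟨hx, h⟩
    refine (AssTensor3.ass_fiber_iff (E := F) (flat_pull G hG) hx w).1 ?_
    rw [hT]
    exact (AssTensor3.ass_tensor_iff hO w).2 h

variable {F G}

omit hG [IsLocallyNoetherian X] [IsLocallyNoetherian Y] [IsLocallyNoetherian (pullback f g)] [G.IsQuasicoherent] in
/-- The scheme over the two residue fields, as a fibre. -/
theorem exists_fiber_iso (x : X) (y : Y) :
    ∃ (e : ((pullback.fst f g).fiberι x ≫ pullback.snd f g).fiber y ⟶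
        pullback (X.fromSpecResidueField x ≫ f) (Y.fromSpecResidueField y ≫ g)),
      IsIso e ∧ ∀ v, pullback.map (X.fromSpecResidueField x ≫ f) (Y.fromSpecResidueField y ≫ g) f g
        (X.fromSpecResidueField x) (Y.fromSpecResidueField y) (𝟙 S) (Category.comp_id _) (Category.comp_id _) (e v) =
          (pullback.fst f g).fiberι x (((pullback.fst f g).fiberι x ≫ pullback.snd f g).fiberι y v) := by
  let p := pullback.fst f g
  let j := p.fiberι x ≫ pullback.snd f g
  have h1 : IsPullback (p.fiberToSpecResidueField x) j (X.fromSpecResidueField x ≫ f) g :=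
    (IsPullback.of_hasPullback p (X.fromSpecResidueField x)).flip.paste_vert (IsPullback.of_hasPullback f g)
  have h2 : IsPullback (j.fiberι y ≫ p.fiberToSpecResidueField x) (j.fiberToSpecResidueField y)
      (X.fromSpecResidueField x ≫ f) (Y.fromSpecResidueField y ≫ g) :=
    (IsPullback.of_hasPullback j (Y.fromSpecResidueField y)).paste_horiz h1
  refine ⟨h2.isoPullback.hom, inferInstance, fun v => ?_⟩
  have key : h2.isoPullback.hom ≫ pullback.map (X.fromSpecResidueField x ≫ f) (Y.fromSpecResidueField y ≫ g) f g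
      (X.fromSpecResidueField x) (Y.fromSpecResidueField y) (𝟙 S) (Category.comp_id _) (Category.comp_id _) =
      j.fiberι y ≫ p.fiberι x := by
    apply pullback.hom_ext
    · simp only [pullback.map, Category.assoc, pullback.lift_fst, IsPullback.isoPullback_hom_fst_assoc]
      exact congrArg (j.fiberι y ≫ ·) pullback.condition.symm
    · simp only [pullback.map, Category.assoc, pullback.lift_snd, IsPullback.isoPullback_hom_snd_assoc]
      exact (pullback.condition (f := j) (g := Y.fromSpecResidueField y)).symm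
  rw [← Scheme.Hom.comp_apply, key, Scheme.Hom.comp_apply]

/-- Associated points of `F ⊗_S G`. -/
theorem ass_eq_iUnion :
    AssSch.Ass (T (f := f) (g := g) F G) =
      ⋃ (x : ↥X) (_ : x ∈ AssSch.Ass F) (y' : ↥(g.fiber (f x)))
        (_ : y' ∈ AssSch.Ass ((Scheme.Modules.pullback (g.fiberι (f x))).obj G)) (y : ↥Y) (_ : y = g.fiberι (f x) y'),
        ⇑(pullback.map (X.fromSpecResidueField x ≫ f) (Y.fromSpecResidueField y ≫ g) f g (X.fromSpecResidueField x)
            (Y.fromSpecResidueField y) (𝟙 S) (Category.comp_id _) (Category.comp_id _)) ''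
          AssSch.Ass (Coh.structureModule (pullback (X.fromSpecResidueField x ≫ f) (Y.fromSpecResidueField y ≫ g))) := by
  let p := pullback.fst f g
  ext z
  simp only [Set.mem_iUnion, exists_prop]
  constructor
  · intro hz
    obtain ⟨x, hx₀⟩ : ∃ x, p z = x := ⟨_, rfl⟩
    obtain ⟨w, rfl⟩ : z ∈ Set.range (p.fiberι x) := (p.range_fiberι x).symm ▸ hx₀
    obtain ⟨i, hi₁, hi⟩ := FibreBC.exists_isPullback_fiber (IsPullback.of_hasPullback f g).flip x
    obtain ⟨hx, hy, hw⟩ := (ass_iff F G hG i hi₁ hi w).1 hz
    refine ⟨x, hx, i w, hy, _, rfl, ?_⟩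
    obtain ⟨e, _, he⟩ := exists_fiber_iso (f := f) (g := g) x (g.fiberι (f x) (i w))
    let j := p.fiberι x ≫ pullback.snd f g
    obtain ⟨v, hv⟩ : w ∈ Set.range (j.fiberι (g.fiberι (f x) (i w))) := by
      rw [j.range_fiberι]
      show j w = _
      rw [show j = i ≫ g.fiberι (f x) from hi₁.symm]
      rfl
    refine ⟨e v, (mem_ass_structure_iff_of_iso e v).2 ?_, (he v).trans (congrArg _ hv)⟩
    obtain ⟨ε⟩ := Ample.nonempty_pullback_structureModule (j.fiberι (g.fiberι (f x) (i w)))
    rw [← AssPts.ass_congr ε]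
    refine (AssTensor3.fibre_transport j _ _ v).1.2 ?_
    rw [hv]
    unfold AssTensor3.fibreQuot at hw ⊢
    rwa [show AssTensor3.fibreIdeal j w = AssTensor3.fibreIdeal i w by
      simp only [show j = i ≫ g.fiberι (f x) from hi₁.symm]
      exact fibreIdeal_comp i _ w]
  · rintro ⟨x, hx, y', hy', y, rfl, v', hv', rfl⟩
    obtain ⟨i, hi₁, hi⟩ := FibreBC.exists_isPullback_fiber (IsPullback.of_hasPullback f g).flip x
    obtain ⟨e, _, he⟩ := exists_fiber_iso (f := f) (g := g) x (g.fiberι (f x) y')
    obtain ⟨v, rfl⟩ := e.homeomorph.surjective v'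
    replace hv' := (mem_ass_structure_iff_of_iso e v).1 hv'
    refine Set.mem_of_eq_of_mem (he v) ?_
    let j := p.fiberι x ≫ pullback.snd f g
    let w := j.fiberι (g.fiberι (f x) y') v
    refine (ass_iff F G hG i hi₁ hi w).2 ⟨hx, ?_, ?_⟩
    · have : g.fiberι (f x) (i w) = g.fiberι (f x) y' := by
        rw [← Scheme.Hom.comp_apply, hi₁]
        exact FibreFlat.fiberι_comp_apply j _ v
      rw [(g.fiberι (f x)).isEmbedding.injective this]
      exact hy'
    · obtain ⟨ε⟩ := Ample.nonempty_pullback_structureModule (j.fiberι (g.fiberι (f x) y'))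
      rw [← AssPts.ass_congr ε] at hv'
      have hw := (AssTensor3.fibre_transport j _ _ v).1.1 hv'
      unfold AssTensor3.fibreQuot at hw ⊢
      rwa [show AssTensor3.fibreIdeal i w = AssTensor3.fibreIdeal j w by
        simp only [show j = i ≫ g.fiberι (f x) from hi₁.symm]
        exact (fibreIdeal_comp i _ w).symm]

end GrothLib.AssTensorS10
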